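import Groth.Agent.Quiet5.BC
import Groth.Agent.S0075
import Groth.Agent.MorLib.RingUnivHomeo
import Groth.Prelude.Def_Frob

/-!
# `p`-th root morphisms are universal homeomorphisms; composition of quasi-etale morphisms
-/

set_option autoImplicit false
set_option linter.style.haveILetI false

universe u

open CategoryTheory CategoryTheory.Limits AlgebraicGeometry Polynomial
open Groth.Agent.MorLib (RUH.Radicial)

namespace Groth.Agent.Quiet5

theorem rootRing_props (p : ℕ) [hp : Fact p.Prime] (A : Type u) [CommRing A] (hA : (p : A) = 0) (a : A) :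
    (algebraMap A (Quiet.RootRing p A a)).IsIntegral ∧
      MorLib.RUH.Radicial (algebraMap A (Quiet.RootRing p A a)) ∧
      Function.Injective (algebraMap A (Quiet.RootRing p A a)) := by
  have hp0 : p ≠ 0 := hp.out.ne_zero
  have hm : (X ^ p - C a : A[X]).Monic := monic_X_pow_sub_C a hp0
  have hroot : (AdjoinRoot.root (X ^ p - C a : A[X])) ^ p = algebraMap A (Quiet.RootRing p A a) a := by
    have := AdjoinRoot.eval₂_root (X ^ p - C a : A[X])
    rw [eval₂_sub, eval₂_pow, eval₂_X, eval₂_C] at this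
    exact sub_eq_zero.1 this
  refine ⟨?_, ?_, ?_⟩
  · haveI := hm.finite_adjoinRoot
    exact fun x => Algebra.IsIntegral.isIntegral x
  · intro K _ f g hfg
    refine AdjoinRoot.ringHom_ext hfg ?_
    have h0 : (p : K) = 0 := by
      have := congrArg (f.comp (algebraMap A (Quiet.RootRing p A a))) hA
      simpa using this
    haveI : CharP K p := (CharP.charP_iff_prime_eq_zero hp.out).2 h0
    apply frobenius_inj K p
    simp only [frobenius_def, ← map_pow, hroot]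
    exact congr($hfg a)
  · nontriviality A
    rw [injective_iff_map_eq_zero]
    intro x hx
    by_contra hne
    refine hm.not_dvd_of_natDegree_lt (C_ne_zero.2 hne) ?_ (AdjoinRoot.mk_eq_zero.1 hx)
    rw [natDegree_C, natDegree_X_pow_sub_C]
    exact hp.out.pos

theorem rootTower_props (p : ℕ) [Fact p.Prime] : ∀ (n : ℕ) (A B : Type u) [CommRing A] [CommRing B]
    [Algebra A B], (p : A) = 0 → Quiet.IsRootTower p n A B →
      (algebraMap A B).IsIntegral ∧ MorLib.RUH.Radicial (algebraMap A B) ∧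
        Function.Injective (algebraMap A B)
  | 0, A, B, _, _, _, _, ⟨e⟩ => by
    have hb : Function.Bijective (algebraMap A B) := by
      rw [show ⇑(algebraMap A B) = ⇑e.symm from funext fun a => (e.symm.commutes a).symm]
      exact e.symm.bijective
    refine ⟨RingHom.isIntegral_of_surjective _ hb.2, ?_, hb.1⟩
    intro K _ f g hfg
    refine RingHom.ext fun b => ?_
    obtain ⟨a, rfl⟩ := hb.2 b
    exact congr($hfg a)
  | n + 1, A, B, _, _, _, hA, ⟨a, alg, htow, hn⟩ => by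
    obtain ⟨i1, r1, j1⟩ := rootRing_props p A hA a
    have hA1 : (p : Quiet.RootRing p A a) = 0 := by
      rw [← map_natCast (algebraMap A (Quiet.RootRing p A a)), hA, map_zero]
    obtain ⟨i2, r2, j2⟩ := rootTower_props p n (Quiet.RootRing p A a) B hA1 hn
    rw [IsScalarTower.algebraMap_eq A (Quiet.RootRing p A a) B]
    refine ⟨RingHom.IsIntegral.trans _ _ i1 i2, ?_, j2.comp j1⟩
    intro K _ f g hfg
    exact r2 K f g (r1 K _ _ (by simpa [RingHom.comp_assoc] using hfg))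

theorem isCharP_of_hom {p : ℕ} {X Y : Scheme.{u}} [FrobSch.IsCharP X p] (f : Y ⟶ X) :
    FrobSch.IsCharP Y p where
  natCast_eq_zero := by
    rw [← map_natCast f.appTop.hom p, FrobSch.IsCharP.natCast_eq_zero, map_zero]

variable {X Y Z : Scheme.{u}} {p : ℕ}

set_option backward.isDefEq.respectTransparency.types false in
/-- A `p`-th root morphism to a scheme of characteristic `p` is a universal homeomorphism. -/
theorem univHomeo_of_isPthRoot [Fact p.Prime] [FrobSch.IsCharP X p] {r : Y ⟶ X}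
    (hr : Quiet.IsPthRoot p r) : IsIntegralHom r ∧ UniversallyInjective r ∧ Surjective r := by
  choose U hxU hU' hT using hr
  have hcov : iSup (fun x => (U x).1) = ⊤ :=
    eq_top_iff.2 fun x _ => TopologicalSpace.Opens.mem_iSup.2 ⟨x, hxU x⟩
  have key : ∀ x, IsIntegralHom (r ∣_ (U x).1) ∧ UniversallyInjective (r ∣_ (U x).1) ∧
      Surjective (r ∣_ (U x).1) := by
    intro x
    have hUx : IsAffineOpen (U x).1 := (U x).2
    have e : r ∣_ (U x).1 = (hU' x).isoSpec.hom ≫ Spec.map (r.app (U x).1) ≫ hUx.isoSpec.inv := by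
      rw [← cancel_mono (U x).1.ι, morphismRestrict_ι, Category.assoc, Category.assoc,
        IsAffineOpen.isoSpec_inv_ι, Scheme.Hom.app_eq_appLE,
        IsAffineOpen.SpecMap_appLE_fromSpec r hUx (hU' x) le_rfl, ← IsAffineOpen.isoSpec_inv_ι,
        Category.assoc, Iso.hom_inv_id_assoc]
    obtain ⟨n, hn⟩ := hT x
    letI := (r.app (U x).1).hom.toAlgebra
    obtain ⟨h1, h2, h3⟩ := rootTower_props p n _ _ (FrobSch.natCast_eq_zero_app X p _) hn
    haveI : IsIntegralHom (Spec.map (r.app (U x).1)) := IsIntegralHom.SpecMap_iff.2 h1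
    haveI : UniversallyInjective (Spec.map (r.app (U x).1)) :=
      (MorLib.RUH.universallyInjective_SpecMap_iff _).2 h2
    haveI : Surjective (Spec.map (r.app (U x).1)) :=
      (MorLib.RUH.surjective_SpecMap_iff _).2 (h1.comap_surjective h3)
    rw [e]
    exact ⟨inferInstance,
      (MorphismProperty.cancel_left_of_respectsIso @UniversallyInjective _ _).2
        ((MorphismProperty.cancel_right_of_respectsIso @UniversallyInjective _ _).2 inferInstance),
      inferInstance⟩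
  exact ⟨IsZariskiLocalAtTarget.of_iSup_eq_top (P := @IsIntegralHom) _ hcov fun x => (key x).1,
    IsZariskiLocalAtTarget.of_iSup_eq_top _ hcov fun x => (key x).2.1,
    IsZariskiLocalAtTarget.of_iSup_eq_top _ hcov fun x => (key x).2.2⟩

/-- A root tower stays one over every smaller affine open. -/
theorem tower_of_le {r : Y ⟶ X} {U : X.Opens} (hU : IsAffineOpen U) (hU' : IsAffineOpen (r ⁻¹ᵁ U)) {n : ℕ}
    (hT : letI := (r.app U).hom.toAlgebra; Quiet.IsRootTower p n Γ(X, U) Γ(Y, r ⁻¹ᵁ U))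
    {O : X.Opens} (hO : IsAffineOpen O) (hOU : O ≤ U) :
    IsAffineOpen (r ⁻¹ᵁ O) ∧
      (letI := (r.app O).hom.toAlgebra; Quiet.IsRootTower p n Γ(X, O) Γ(Y, r ⁻¹ᵁ O)) := by
  have H : IsPullback (𝟙 Y) r r (𝟙 X) := IsPullback.of_horiz_isIso ⟨by simp⟩
  have hOU' : O ≤ 𝟙 X ⁻¹ᵁ U := hOU
  have hW : r ⁻¹ᵁ O = 𝟙 Y ⁻¹ᵁ (r ⁻¹ᵁ U) ⊓ r ⁻¹ᵁ O :=
    (inf_eq_right.2 (r.preimage_mono hOU)).symm
  have haff : IsAffineOpen (r ⁻¹ᵁ O) := by
    haveI : IsAffine _ := hU
    haveI : IsAffine _ := hU'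
    haveI : IsAffine _ := hO
    exact .of_isIso (Scheme.Hom.isPullback_resLE H hOU' le_rfl hW).isoPullback.hom
  have hpo := (isIso_pushoutSection_iff H hOU' le_rfl hW).mp
    (isIso_pushoutSection_of_isAffineOpen H hOU' le_rfl hW hU hO hU')
  refine ⟨haff, ?_⟩
  have := isRootTower_baseChange p n _ _ _ _ hpo (by rw [← Scheme.Hom.app_eq_appLE]; exact hT)
  rw [← Scheme.Hom.app_eq_appLE] at this
  exact this

/-- A composite of root towers is a root tower. -/
theorem tower_comp (p : ℕ) : ∀ (n m : ℕ) {A B C : CommRingCat.{u}} (f : A ⟶ B) (g : B ⟶ C),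
    (letI := f.hom.toAlgebra; Quiet.IsRootTower p n A B) →
    (letI := g.hom.toAlgebra; Quiet.IsRootTower p m B C) →
    ∃ k, (letI := (f ≫ g).hom.toAlgebra; Quiet.IsRootTower p k A C)
  | 0, m, A, B, C, f, g, hf, hg => by
    letI := f.hom.toAlgebra
    obtain ⟨e⟩ := hf
    haveI : IsIso f := (ConcreteCategory.isIso_iff_bijective f).2 (by
      rw [show ⇑f.hom = ⇑e.symm from funext fun a => (e.symm.commutes a).symm]
      exact e.symm.bijective)
    have h : IsPushout g (inv f) (𝟙 C) (f ≫ g) := IsPushout.of_vert_isIso ⟨by simp⟩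
    exact ⟨m, isRootTower_baseChange p m g (inv f) (𝟙 C) (f ≫ g) h hg⟩
  | n + 1, m, A, B, C, f, g, hf, hg => by
    letI := f.hom.toAlgebra
    obtain ⟨a, alg, htow, hn⟩ := hf
    let j : CommRingCat.of (Quiet.RootRing p A a) ⟶ B :=
      CommRingCat.ofHom (algebraMap (Quiet.RootRing p A a) B)
    have hj : (letI := j.hom.toAlgebra; Quiet.IsRootTower p n (Quiet.RootRing p A a) B) := by
      have e : alg = j.hom.toAlgebra := Algebra.algebra_ext _ _ fun _ => rfl
      rw [← e]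
      exact hn
    obtain ⟨k, hk⟩ := tower_comp p n m j g hj hg
    letI := (f ≫ g).hom.toAlgebra
    refine ⟨k + 1, a, (j ≫ g).hom.toAlgebra, ?_, hk⟩
    letI := (j ≫ g).hom.toAlgebra
    exact IsScalarTower.of_algebraMap_eq fun x =>
      congrArg g.hom (IsScalarTower.algebraMap_apply A (Quiet.RootRing p A a) B x)

theorem isPthRoot_comp [Fact p.Prime] [FrobSch.IsCharP X p] {r : Z ⟶ Y} {q : Y ⟶ X}
    (hr : Quiet.IsPthRoot p r) (hq : Quiet.IsPthRoot p q) : Quiet.IsPthRoot p (r ≫ q) := by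
  obtain ⟨hqi, hqu, hqs⟩ := univHomeo_of_isPthRoot hq
  intro x
  obtain ⟨U, hxU, hU', n, hn⟩ := hq x
  obtain ⟨y, rfl⟩ := q.surjective x
  obtain ⟨U₁, hyU₁, hU₁', m, hm⟩ := hr y
  -- an open neighbourhood of `q y` whose preimage lies in `U₁`
  let O : X.Opens := ⟨(q.base '' (U₁.1 : Set Y)ᶜ)ᶜ,
    (q.isClosedMap _ U₁.1.isOpen.isClosed_compl).isOpen_compl⟩
  have hyO : q y ∈ O := fun ⟨y', hy', e⟩ => hy' (q.injective e ▸ hyU₁)
  obtain ⟨a, haO, hya⟩ := U.2.exists_basicOpen_le ⟨q y, hyO⟩ hxU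
  have hb : IsAffineOpen (X.basicOpen a) := U.2.basicOpen a
  obtain ⟨hb', hTq⟩ := tower_of_le U.2 hU' hn hb (X.basicOpen_le a)
  have hle : q ⁻¹ᵁ X.basicOpen a ≤ U₁.1 := fun z hz => by
    by_contra h
    exact haO hz ⟨z, h, rfl⟩
  obtain ⟨hb'', hTr⟩ := tower_of_le U₁.2 hU₁' hm hb' hle
  obtain ⟨k, hk⟩ := tower_comp p n m _ _ hTq hTr
  refine ⟨⟨X.basicOpen a, hb⟩, hya, hb'', k, ?_⟩
  rw [Scheme.Hom.comp_app]
  exact hk

theorem isPthRoot_iso_comp {W : Scheme.{u}} (e : W ⟶ Z) [IsIso e] {r : Z ⟶ Y} (hr : Quiet.IsPthRoot p r) :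
    Quiet.IsPthRoot p (e ≫ r) :=
  isPthRoot_of_isPullback (IsPullback.of_horiz_isIso (fst := e) (snd := e ≫ r) (f := r) (g := 𝟙 Y)
    ⟨by simp⟩) hr

theorem isQuiet_comp [Fact p.Prime] [FrobSch.IsCharP X p] {f : Y ⟶ X} {g : Z ⟶ Y}
    (hf : Quiet.IsQuiet p f) (hg : Quiet.IsQuiet p g) : Quiet.IsQuiet p (g ≫ f) := by
  intro z
  obtain ⟨V, Z₁, r₁, e₁, hzV, hr₁, he₁, hre₁⟩ := hg z
  obtain ⟨W, Y₁, r₂, e₂, hgW, hr₂, he₂, hre₂⟩ := hf (g z)
  haveI := isCharP_of_hom (p := p) e₂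
  obtain ⟨h1, h2, h3⟩ := univHomeo_of_isPthRoot hr₂
  haveI := Groth.Agent.S0075.result r₂
  -- topological invariance of the etale site
  haveI : Etale (e₁ ∣_ W) := MorphismProperty.of_isPullback (isPullback_morphismRestrict e₁ W).flip he₁
  let U : (W : Scheme.{u}).Etale := Scheme.Etale.mk (e₁ ∣_ W)
  let E := (EtCoh.bc r₂).objPreimage U
  let φ := (EtCoh.bc r₂).objObjPreimageIso U
  haveI : Etale E.hom := E.prop
  let ψ : pullback E.hom r₂ ≅ (e₁ ⁻¹ᵁ W : Z₁.Opens) :=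
    (Scheme.Etale.forget _ ⋙ Over.forget _).mapIso φ
  have hψ : ψ.hom ≫ (e₁ ∣_ W) = pullback.snd E.hom r₂ := Over.w ((Scheme.Etale.forget _).map φ.hom)
  have H : IsPullback (e₁ ∣_ W) (ψ.inv ≫ pullback.fst E.hom r₂) r₂ E.hom :=
    IsPullback.of_iso (IsPullback.of_hasPullback E.hom r₂).flip ψ (Iso.refl _) (Iso.refl _) (Iso.refl _)
      (by simp [hψ]) (by simp) (by simp) (by simp)
  haveI : FrobSch.IsCharP E.left p := isCharP_of_hom (X := Y₁) E.hom
  have hq := isPthRoot_of_isPullback H hr₂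
  have hr₁' : Quiet.IsPthRoot p (r₁ ∣_ (e₁ ⁻¹ᵁ W)) :=
    isPthRoot_of_isPullback (isPullback_morphismRestrict r₁ (e₁ ⁻¹ᵁ W)).flip hr₁
  have hρ := isPthRoot_iso_comp (V.ι.isoImage (r₁ ⁻¹ᵁ (e₁ ⁻¹ᵁ W))).inv (@isPthRoot_comp E.left _ _ p _ this _ _ hr₁' hq)
  refine ⟨V.ι ''ᵁ (r₁ ⁻¹ᵁ (e₁ ⁻¹ᵁ W)), E.left, _, E.hom ≫ e₂, ?_, hρ, inferInstance, ?_⟩
  · refine ⟨⟨z, hzV⟩, ?_, rfl⟩
    show e₁ (r₁ ⟨z, hzV⟩) ∈ W
    have h0 : e₁ (r₁ ⟨z, hzV⟩) = g z := congr($(hre₁) ⟨z, hzV⟩)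
    rw [h0]
    exact hgW
  · simp only [Category.assoc]
    rw [← reassoc_of% H.w, hre₂, morphismRestrict_ι_assoc, morphismRestrict_ι_assoc, reassoc_of% hre₁,
      Scheme.Hom.isoImage_inv_ι_assoc]

end Groth.Agent.Quiet5
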