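import Groth.Agent.Quiet5.FrobRoot
import Groth.Agent.EGA41Lib.RegSeqPow
import Mathlib.RingTheory.Regular.Flat
import Mathlib.RingTheory.Flat.FaithfullyFlat.Algebra

/-!
# The Frobenius of a quotient by a regular sequence
-/

set_option autoImplicit false
set_option linter.style.haveILetI false

universe u

open CategoryTheory AlgebraicGeometry MvPolynomial RingTheory.Sequence

namespace Groth.Agent.Quiet5

theorem ofList_append_ofFn {R : Type u} [CommRing R] {n m : ℕ} (f : Fin n → R) (g : Fin m → R) :
    Ideal.ofList (List.ofFn f ++ List.ofFn g) = Ideal.span (Set.range f ∪ Set.range g) := by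
  refine congrArg Ideal.span (Set.ext fun x => ?_)
  simp [List.mem_ofFn, eq_comm]

theorem ofList_ofFn {R : Type u} [CommRing R] {n : ℕ} (f : Fin n → R) :
    Ideal.ofList (List.ofFn f) = Ideal.span (Set.range f) := by
  refine congrArg Ideal.span (Set.ext fun x => ?_)
  simp [List.mem_ofFn, eq_comm]

/-- A regular sequence on the quotient extends a weakly regular sequence. -/
theorem isRegular_append_of_quotient {R : Type u} [CommRing R] {n m : ℕ} (f : Fin n → R) (g : Fin m → R)
    (hf : IsWeaklyRegular R (List.ofFn f))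
    (hg : IsRegular (R ⧸ Ideal.span (Set.range f))
      (List.ofFn fun j => Ideal.Quotient.mk (Ideal.span (Set.range f)) (g j))) :
    IsRegular R (List.ofFn f ++ List.ofFn g) := by
  set I := Ideal.span (Set.range f) with hI
  have hmap : (List.ofFn g).map (algebraMap R (R ⧸ I)) = List.ofFn fun j => Ideal.Quotient.mk I (g j) := by
    rw [List.map_ofFn]
    rfl
  refine ⟨(isWeaklyRegular_append_iff R _ _).2 ⟨hf, ?_⟩, fun h => ?_⟩
  · have h1 : IsWeaklyRegular (R ⧸ I) (List.ofFn g) := by
      rw [← isWeaklyRegular_map_algebraMap_iff (R ⧸ I), hmap]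
      exact hg.1
    exact ((Submodule.quotEquivOfEq (Ideal.ofList (List.ofFn f) • (⊤ : Submodule R R)) I (by
      rw [Ideal.smul_eq_mul, Ideal.mul_top, ofList_ofFn])).isWeaklyRegular_congr _).2 h1
  · refine hg.2 ?_
    rw [Ideal.smul_eq_mul, Ideal.mul_top, ofList_append_ofFn] at h
    rw [Ideal.smul_eq_mul, Ideal.mul_top, ofList_ofFn]
    have := congrArg (Ideal.map (Ideal.Quotient.mk I)) h
    rw [Ideal.map_top, Ideal.map_span, Set.image_union, Ideal.span_union,
      ← Ideal.map_span, ← hI, Ideal.map_quotient_self, bot_sup_eq, ← Set.range_comp] at this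
    exact this

theorem isRegular_map {R S : Type u} [CommRing R] [CommRing S] (f : R →+* S) (hf : f.FaithfullyFlat)
    {rs : List R} (h : IsRegular R rs) : IsRegular S (rs.map f) := by
  letI := f.toAlgebra
  haveI : Module.FaithfullyFlat R S := hf
  exact h.of_faithfullyFlat (S := S)

variable (p : ℕ) [hp : Fact p.Prime] (k : Type u) [Field k] [CharP k p] [PerfectRing k p]
  (P : Type u) [CommRing P] [Algebra k P] [CharP P p] [Algebra.Smooth k P]

include k in
theorem frobenius_quotient (I : Ideal P) :
    (Ideal.quotientMap (I.map (frobenius P p)) (frobenius P p) Ideal.le_comap_map).FaithfullyFlat ∧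
      Quiet.IsPthRoot p (Spec.map (CommRingCat.ofHom
        (Ideal.quotientMap (I.map (frobenius P p)) (frobenius P p) Ideal.le_comap_map))) := by
  let R := CommRingCat.of P
  let F : R ⟶ R := CommRingCat.ofHom (frobenius P p)
  let g : R ⟶ CommRingCat.of (P ⧸ I) := CommRingCat.ofHom (Ideal.Quotient.mk I)
  let g' : R ⟶ CommRingCat.of (P ⧸ I.map (frobenius P p)) := CommRingCat.ofHom (Ideal.Quotient.mk _)
  let f' : CommRingCat.of (P ⧸ I) ⟶ CommRingCat.of (P ⧸ I.map (frobenius P p)) :=
    CommRingCat.ofHom (Ideal.quotientMap (I.map (frobenius P p)) (frobenius P p) Ideal.le_comap_map)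
  have sq : IsPushout F g g' f' := by
    refine ⟨⟨?_⟩, ⟨Limits.PushoutCocone.IsColimit.mk _ (fun s => CommRingCat.ofHom
      (Ideal.Quotient.lift _ s.inl.hom ?_)) (fun s => ?_) (fun s => ?_) (fun s m hl hr => ?_)⟩⟩
    · exact CommRingCat.hom_ext (RingHom.ext fun x => rfl)
    · intro x hx
      refine (Ideal.map_le_iff_le_comap.2 fun y hy => ?_ : I.map (frobenius P p) ≤ RingHom.ker s.inl.hom) hx
      rw [Ideal.mem_comap, RingHom.mem_ker]
      have h := congr($(s.condition).hom y)
      refine h.trans ?_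
      show s.inr.hom (Ideal.Quotient.mk I y) = 0
      rw [Ideal.Quotient.eq_zero_iff_mem.2 hy, map_zero]
    · exact CommRingCat.hom_ext (RingHom.ext fun x => rfl)
    · refine CommRingCat.hom_ext (Ideal.Quotient.ringHom_ext (RingHom.ext fun x => ?_))
      exact congr($(s.condition).hom x)
    · refine CommRingCat.hom_ext (Ideal.Quotient.ringHom_ext (RingHom.ext fun x => ?_))
      exact congr($(hl).hom x)
  have Hsq := isPullback_SpecMap_of_isPushout _ _ _ _ sq
  obtain ⟨hF1, hF2⟩ := (flat_and_surjective_SpecMap_iff F).2 (faithfullyFlat_frobenius p k P)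
  exact ⟨(flat_and_surjective_SpecMap_iff f').1
    ⟨MorphismProperty.of_isPullback Hsq hF1, MorphismProperty.of_isPullback Hsq hF2⟩,
    isPthRoot_of_isPullback Hsq (isPthRoot_frobenius p k P)⟩

theorem frobenius_quotient_regularSeq (A : Type u) [CommRing A] [Algebra k A] [CharP A p] [Algebra.Smooth k A]
    (n : ℕ) (t : Fin n → A) (ht : IsRegular A (List.ofFn t)) (r m : ℕ) (v : Fin m → MvPolynomial (Fin r) A)
    (hv : IsRegular
      (MvPolynomial (Fin r) A ⧸ Ideal.span (Set.range fun i => C (t i) ^ p))
      (List.ofFn fun j => Ideal.Quotient.mk (Ideal.span (Set.range fun i => C (t i) ^ p)) (v j))) :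
    IsRegular (MvPolynomial (Fin r) A)
        (List.ofFn (fun i => C (t i) ^ (p ^ 2)) ++ List.ofFn (fun j => v j ^ p)) := by
  haveI : Algebra.Smooth A (MvPolynomial (Fin r) A) := ⟨inferInstance, inferInstance⟩
  haveI : Algebra.Smooth k (MvPolynomial (Fin r) A) := Algebra.Smooth.comp k A _
  let F : MvPolynomial (Fin r) A →+* MvPolynomial (Fin r) A := frobenius _ p
  have h1 : IsWeaklyRegular (MvPolynomial (Fin r) A) (List.ofFn fun i => (C (t i) : MvPolynomial (Fin r) A) ^ p) := by
    have h0 := ht.1.of_flat (S := MvPolynomial (Fin r) A)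
    rw [List.map_ofFn] at h0
    exact EGA41Lib.isWeaklyRegular_pow n (fun i => (C (t i) : MvPolynomial (Fin r) A)) (fun _ => p) (fun _ => hp.out.one_le) h0
  have h2 := isRegular_append_of_quotient _ v h1 hv
  have h3 := isRegular_map F (faithfullyFlat_frobenius p k (MvPolynomial (Fin r) A)) h2
  rw [List.map_append, List.map_ofFn, List.map_ofFn] at h3
  have e1 : (fun i => (C (t i) : MvPolynomial (Fin r) A) ^ (p ^ 2)) = F ∘ fun i => C (t i) ^ p :=
    funext fun i => by simp [F, frobenius_def, ← pow_mul, sq]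
  rw [e1]
  exact h3

end Groth.Agent.Quiet5
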