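import Groth.Agent.Quiet5.BC
import Groth.Agent.FrobSmoothLib.Global
import Mathlib.RingTheory.RingHom.FaithfullyFlat
import Mathlib.FieldTheory.Perfect

/-!
# The Frobenius of a smooth algebra over a perfect field is an extraction of `p`-th roots
-/

set_option autoImplicit false
set_option linter.style.haveILetI false

universe u

open CategoryTheory AlgebraicGeometry TensorProduct FrobAlg

namespace Groth.Agent.Quiet5

theorem isRootTower_of_subsingleton (p : ℕ) : ∀ (n : ℕ) (A B : Type u) [CommRing A] [CommRing B] [Algebra A B]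
    [Subsingleton A] [Subsingleton B], Quiet.IsRootTower p n A B
  | 0, A, B, _, _, _, _, _ =>
    ⟨(AlgEquiv.ofBijective (Algebra.ofId A B) ⟨fun a b _ => Subsingleton.elim a b,
      fun b => ⟨0, Subsingleton.elim _ b⟩⟩).symm⟩
  | n + 1, A, B, _, _, _, _, _ => by
    let j : Quiet.RootRing p A 0 →+* B := AdjoinRoot.lift (algebraMap A B) 0 (Subsingleton.elim _ _)
    letI := j.toAlgebra
    haveI : Subsingleton (Quiet.RootRing p A 0) := AdjoinRoot.mk_surjective.subsingleton
    exact ⟨0, j.toAlgebra, IsScalarTower.of_algebraMap_eq fun y => Subsingleton.elim _ _,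
      isRootTower_of_subsingleton p n _ B⟩

/-- A ring map with a monomial basis in elements with `p`-th power in the source is a root tower. -/
theorem isRootTower_of_bijective (p : ℕ) [hp : Fact p.Prime] : ∀ (n : ℕ) (A B : Type u) [CommRing A] [CommRing B]
    (f : A →+* B) (x : Fin n → B) (a : Fin n → A), (∀ i, x i ^ p = f (a i)) →
    Function.Bijective (fun c : (Fin n → Fin p) → A => ∑ r, f (c r) * ∏ i, x i ^ (r i : ℕ)) →
    (letI := f.toAlgebra; Quiet.IsRootTower p n A B)
  | 0, A, B, _, _, f, x, a, _, hb => by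
    letI := f.toAlgebra
    have h : Function.Bijective f := by
      have e : (fun c : (Fin 0 → Fin p) → A => ∑ r, f (c r) * ∏ i, x i ^ (r i : ℕ)) =
          f ∘ (Equiv.funUnique (Fin 0 → Fin p) A) := by
        funext c
        rw [Fintype.sum_unique]
        simp
      rw [e] at hb
      exact (Function.Bijective.of_comp_iff f (Equiv.funUnique (Fin 0 → Fin p) A).bijective).1 hb
    exact ⟨(AlgEquiv.ofBijective (Algebra.ofId A B) h).symm⟩
  | n + 1, A, B, _, _, f, x, a, hx, hb => by
    letI := f.toAlgebra
    rcases subsingleton_or_nontrivial A with hA | hA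
    · haveI : Subsingleton B := hb.2.subsingleton
      exact isRootTower_of_subsingleton p (n + 1) A B
    have hp0 : p ≠ 0 := hp.out.ne_zero
    have hm : (Polynomial.X ^ p - Polynomial.C (a 0) : Polynomial A).Monic :=
      Polynomial.monic_X_pow_sub_C (a 0) hp0
    let j : Quiet.RootRing p A (a 0) →+* B := AdjoinRoot.lift f (x 0) (by simp [hx 0])
    have hjof : ∀ y, j (AdjoinRoot.of _ y) = f y := fun y => AdjoinRoot.lift_of _
    have hjroot : j (AdjoinRoot.root _) = x 0 := AdjoinRoot.lift_root _
    have hdim : (AdjoinRoot.powerBasis' hm).dim = p := by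
      rw [AdjoinRoot.powerBasis'_dim]
      exact Polynomial.natDegree_X_pow_sub_C
    let bas := (AdjoinRoot.powerBasis' hm).basis.reindex (finCongr hdim)
    have hbas : ∀ i : Fin p, bas i = (AdjoinRoot.root _) ^ (i : ℕ) := fun i => by
      simp [bas]
    let E : (Fin p → A) ≃ Quiet.RootRing p A (a 0) := bas.equivFun.symm.toEquiv
    have hE : ∀ c, j (E c) = ∑ i, f (c i) * x 0 ^ (i : ℕ) := fun c => by
      change j (bas.equivFun.symm c) = _
      rw [Module.Basis.equivFun_symm_apply, map_sum]
      refine Finset.sum_congr rfl fun i _ => ?_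
      rw [Algebra.smul_def, map_mul, hbas, map_pow, hjroot]
      exact congrArg (· * _) (hjof _)
    let T := fun c : (Fin n → Fin p) → Quiet.RootRing p A (a 0) => ∑ r, j (c r) * ∏ i, x i.succ ^ (r i : ℕ)
    let K : ((Fin (n + 1) → Fin p) → A) ≃ ((Fin n → Fin p) → Quiet.RootRing p A (a 0)) :=
      (((Fin.consEquiv fun _ => Fin p).symm.trans (Equiv.prodComm _ _)).arrowCongr (Equiv.refl A)).trans
        ((Equiv.curry _ _ _).trans (Equiv.piCongrRight fun _ => E))
    have hT : Function.Bijective T := by
      refine (Function.Bijective.of_comp_iff T K.bijective).1 ?_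
      convert hb using 1
      funext c
      change ∑ r, j (E fun i => c (Fin.cons i r)) * ∏ i, x i.succ ^ (r i : ℕ) = _
      simp only [hE, Finset.sum_mul]
      rw [← (Fin.consEquiv fun _ : Fin (n + 1) => Fin p).sum_comp, Fintype.sum_prod_type, Finset.sum_comm]
      refine Finset.sum_congr rfl fun i _ => Finset.sum_congr rfl fun r _ => ?_
      simp [Fin.prod_univ_succ, mul_assoc]
      rfl
    refine ⟨a 0, j.toAlgebra, ?_, isRootTower_of_bijective p n _ B j (fun i => x i.succ)
      (fun i => AdjoinRoot.of _ (a i.succ)) (fun i => by rw [hjof, hx]) hT⟩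
    letI := j.toAlgebra
    exact IsScalarTower.of_algebraMap_eq fun y => (hjof y).symm

set_option backward.isDefEq.respectTransparency.types false in
theorem exists_away_data (R : CommRingCat.{u}) (f : R) :
    ∃ (_ : Algebra R Γ(Spec R, PrimeSpectrum.basicOpen f)),
      IsLocalization.Away f Γ(Spec R, PrimeSpectrum.basicOpen f) ∧
      ∀ a, algebraMap R Γ(Spec R, PrimeSpectrum.basicOpen f) a =
        (Spec R).presheaf.map (homOfLE (le_top : PrimeSpectrum.basicOpen f ≤ ⊤)).op ((Scheme.ΓSpecIso R).inv a) :=
  ⟨inferInstance, inferInstance, fun _ => rfl⟩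

variable (p : ℕ) [hp : Fact p.Prime] (k : Type u) [Field k] [CharP k p] [PerfectRing k p]
  (C : Type u) [CommRing C] [Algebra k C]

/-- Over a perfect field the twist changes nothing. -/
theorem bijective_incl : Function.Bijective (fun c : C => c ⊗ₜ[k] (1 : Twist p k)) := by
  have h : Function.Bijective (Algebra.ofId k (Twist p k)) :=
    (toTwist p k).bijective.comp (frobeniusEquiv k p).bijective
  let e : C ≃ₐ[k] C ⊗[k] Twist p k :=
    (Algebra.TensorProduct.rid k k C).symm.trans
      (Algebra.TensorProduct.congr AlgEquiv.refl (AlgEquiv.ofBijective _ h))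
  have : (fun c : C => c ⊗ₜ[k] (1 : Twist p k)) = e := funext fun c => by simp [e]
  rw [this]
  exact e.bijective

/-- The Frobenius of a standard smooth algebra is a root tower. -/
theorem isRootTower_frobenius [CharP C p] (n : ℕ) [Algebra.IsStandardSmoothOfRelativeDimension n k C] :
    letI := (frobenius C p).toAlgebra
    Quiet.IsRootTower p n C C := by
  obtain ⟨g, hg⟩ := Algebra.IsStandardSmoothOfRelativeDimension.exists_etale_mvPolynomial (n := n) k C
  let x : Fin n → C := fun i => g (MvPolynomial.X i)
  refine isRootTower_of_bijective p n C C (frobenius C p) x x (fun i => rfl) ?_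
  have h := (FrobSmoothLib.bijective_linearCombination (p := p) g hg).comp
    (Function.Bijective.piMap fun _ : Fin n → Fin p => bijective_incl p k C)
  convert h using 1
  funext c
  simp only [Function.comp_apply, Fintype.linearCombination_apply, Pi.map_apply]
  refine Finset.sum_congr rfl fun r _ => ?_
  rw [MvPolynomial.monomial_eq, map_one, one_mul, map_finsuppProd, Finsupp.prod_fintype _ _ fun _ => by simp]
  letI := (relFrob p k C).toAlgebra
  change _ = relFrob p k C (c r ⊗ₜ[k] (1 : Twist p k)) * _
  rw [PerfLib.relFrob_tmul, map_one, map_one, mul_one]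
  congr 1
  exact Finset.prod_congr rfl fun i _ => by simp [x, FrobSmoothLib.ofRem]

variable (A : Type u) [CommRing A] [Algebra k A] [CharP A p] [Algebra.Smooth k A]

include k in
theorem flat_frobenius : (frobenius A p).Flat := by
  let ι : A →+* A ⊗[k] Twist p k := Algebra.TensorProduct.includeLeftRingHom
  have h1 : ι.Flat := RingHom.Flat.of_bijective (bijective_incl p k A)
  have h2 := h1.comp (FrobSmoothLib.flat_relFrob (p := p) (A := k) (B := A))
  convert h2 using 1
  refine RingHom.ext fun a => ?_
  change a ^ p = relFrob p k A (a ⊗ₜ[k] (1 : Twist p k))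
  rw [PerfLib.relFrob_tmul, map_one, map_one, mul_one]

include k in
theorem faithfullyFlat_frobenius : (frobenius A p).FaithfullyFlat := by
  rw [RingHom.FaithfullyFlat.iff_flat_and_comap_surjective]
  refine ⟨flat_frobenius p k A, fun q => ⟨q, PrimeSpectrum.ext (Ideal.ext fun a => ?_)⟩⟩
  exact q.2.pow_mem_iff_mem p hp.out.pos

include k in
set_option backward.isDefEq.respectTransparency.types false in
theorem isPthRoot_frobenius : Quiet.IsPthRoot p (Spec.map (CommRingCat.ofHom (frobenius A p))) := by
  let R : CommRingCat.{u} := CommRingCat.of A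
  let F : Spec R ⟶ Spec R := Spec.map (CommRingCat.ofHom (frobenius A p))
  intro q
  obtain ⟨s, hs, hstd⟩ := Algebra.Smooth.exists_span_eq_top_isStandardSmooth k A
  obtain ⟨b, hbs, hbq⟩ : ∃ b ∈ s, b ∉ q.asIdeal := by
    by_contra h
    push Not at h
    exact q.2.ne_top (top_unique (hs ▸ Ideal.span_le.2 h))
  let U : (Spec R).Opens := PrimeSpectrum.basicOpen (R := R) b
  have hU : IsAffineOpen U := by
    have h := (isAffineOpen_top (Spec R)).basicOpen ((Scheme.ΓSpecIso R).inv (b : R))
    rwa [basicOpen_eq_of_affine (R := R) b] at h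
  have hW : F ⁻¹ᵁ U = U := by
    ext z
    exact not_congr (z.2.pow_mem_iff_mem p hp.out.pos)
  haveI : Nontrivial (Localization.Away b) := by
    by_contra h
    haveI := not_nontrivial_iff_subsingleton.1 h
    obtain ⟨⟨_, m, rfl⟩, hm⟩ := (IsLocalization.map_eq_zero_iff (Submonoid.powers b) (Localization.Away b) 1).1
      (Subsingleton.elim _ _)
    exact hbq (q.2.mem_of_pow_mem m (by simp only [mul_one] at hm; rw [hm]; exact q.asIdeal.zero_mem))
  haveI := FrobSmoothLib.charP_away (p := p) (A := k) b
  haveI := hstd b hbs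
  obtain ⟨n, hn⟩ := FrobSmoothLib.exists_relativeDimension (A := k) (C := Localization.Away b)
  have hT := isRootTower_frobenius p k (Localization.Away b) n
  obtain ⟨ialg, iloc, halg⟩ := exists_away_data R b
  let C : CommRingCat.{u} := CommRingCat.of (Localization.Away b)
  let eU : C ≅ Γ(Spec R, U) :=
    (IsLocalization.algEquiv (Submonoid.powers (M := R) b) (Localization.Away (M := R) b)
      Γ(Spec R, PrimeSpectrum.basicOpen (R := R) b)).toRingEquiv.toCommRingCatIso
  let eW : C ≅ Γ(Spec R, F ⁻¹ᵁ U) := eU ≪≫ (Spec R).presheaf.mapIso (eqToIso hW).op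
  have hsq : CommRingCat.ofHom (frobenius (Localization.Away b) p) ≫ eW.hom = eU.hom ≫ F.app U := by
    refine CommRingCat.hom_ext (IsLocalization.ringHom_ext (Submonoid.powers b) (RingHom.ext fun y => ?_))
    have e1 : ∀ z : R, eU.hom (algebraMap A (Localization.Away b) z) =
        (Spec R).presheaf.map (homOfLE (le_top : U ≤ ⊤)).op ((Scheme.ΓSpecIso R).inv z) := fun z => Eq.trans
      ((IsLocalization.algEquiv (Submonoid.powers (M := R) b) (Localization.Away (M := R) b)
        Γ(Spec R, PrimeSpectrum.basicOpen (R := R) b)).commutes z) (halg z)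
    have e2 : F.appTop ((Scheme.ΓSpecIso R).inv y) = (Scheme.ΓSpecIso R).inv (frobenius A p y) :=
      congr($((Scheme.ΓSpecIso_inv_naturality (CommRingCat.ofHom (frobenius A p))).symm).hom y)
    change (Spec R).presheaf.map _ (eU.hom (frobenius _ p (algebraMap A _ y))) = F.app U (eU.hom _)
    rw [← RingHom.map_frobenius (algebraMap A (Localization.Away b)), e1, e1, ← e2]
    rw [show F.app U ((Spec R).presheaf.map (homOfLE (le_top : U ≤ ⊤)).op ((Scheme.ΓSpecIso R).inv y)) =
      (Spec R).presheaf.map (homOfLE (le_top : F ⁻¹ᵁ U ≤ ⊤)).op (F.appTop ((Scheme.ΓSpecIso R).inv y)) from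
      congr($(F.naturality (homOfLE (le_top : U ≤ ⊤)).op).hom ((Scheme.ΓSpecIso R).inv y))]
    exact (congr($((Spec R).presheaf.map_comp (homOfLE (le_top : U ≤ ⊤)).op (eqToIso hW).op.hom).hom _)).symm
  have hW' : IsAffineOpen (F ⁻¹ᵁ U) := by rw [hW]; exact hU
  refine ⟨⟨U, hU⟩, hbq, hW', n, ?_⟩
  have h := isRootTower_baseChange p n (CommRingCat.ofHom (frobenius (Localization.Away b) p)) eU.hom eW.hom
    (F.app U) (IsPushout.of_vert_isIso ⟨hsq⟩) hT
  exact h

end Groth.Agent.Quiet5
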