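import Groth.Agent.Quiet5.Comp

/-!
# Lifting quasi-etale morphisms along surjective closed immersions
-/

set_option autoImplicit false
set_option linter.style.haveILetI false

universe u

open CategoryTheory CategoryTheory.Limits AlgebraicGeometry Polynomial

namespace Groth.Agent.Quiet5

/-- Root towers lift along surjections. -/
theorem exists_lift_tower (p : ℕ) : ∀ (n : ℕ) {A A' B' : CommRingCat.{u}} (g : A ⟶ A') (f' : A' ⟶ B'),
    Function.Surjective g.hom → (letI := f'.hom.toAlgebra; Quiet.IsRootTower p n A' B') →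
    ∃ (B : CommRingCat.{u}) (f : A ⟶ B) (g' : B ⟶ B'),
      (letI := f.hom.toAlgebra; Quiet.IsRootTower p n A B) ∧ IsPushout f g g' f'
  | 0, A, A', B', g, f', _, hT => by
    letI := f'.hom.toAlgebra
    obtain ⟨e⟩ := hT
    haveI : IsIso f' := (ConcreteCategory.isIso_iff_bijective f').2 (by
      rw [show ⇑f'.hom = ⇑e.symm from funext fun a => (e.symm.commutes a).symm]
      exact e.symm.bijective)
    refine ⟨A, 𝟙 A, g ≫ f', ?_, IsPushout.of_horiz_isIso ⟨by simp⟩⟩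
    letI := (𝟙 A : A ⟶ A).hom.toAlgebra
    exact ⟨(AlgEquiv.ofBijective (Algebra.ofId A A) Function.bijective_id).symm⟩
  | n + 1, A, A', B', g, f', hg, hT => by
    letI := f'.hom.toAlgebra
    obtain ⟨a', alg, htow, hn⟩ := hT
    obtain ⟨a, rfl⟩ := hg a'
    let A1 := CommRingCat.of (Quiet.RootRing p A a)
    let A1' := CommRingCat.of (Quiet.RootRing p A' (g.hom a))
    let i : A ⟶ A1 := CommRingCat.ofHom (AdjoinRoot.of _)
    let i' : A' ⟶ A1' := CommRingCat.ofHom (AdjoinRoot.of _)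
    have h0 : eval₂ (g ≫ i').hom (AdjoinRoot.root (X ^ p - C (g.hom a) : A'[X])) (X ^ p - C a : A[X]) = 0 := by
      have := AdjoinRoot.eval₂_root (X ^ p - C (g.hom a) : A'[X])
      rw [eval₂_sub, eval₂_pow, eval₂_X, eval₂_C] at this ⊢
      exact this
    let g1 : A1 ⟶ A1' := CommRingCat.ofHom (AdjoinRoot.lift (g ≫ i').hom (AdjoinRoot.root _) h0)
    have sq : IsPushout i g g1 i' := by
      refine ⟨⟨?_⟩, ⟨PushoutCocone.IsColimit.mk _ (fun s => CommRingCat.ofHom (AdjoinRoot.lift s.inr.hom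
        (s.inl.hom (AdjoinRoot.root _)) ?_)) (fun s => ?_) (fun s => ?_) (fun s m hl hr => ?_)⟩⟩
      · refine CommRingCat.hom_ext (RingHom.ext fun x => ?_)
        simp [g1, i, i']
        exact AdjoinRoot.lift_of _
      · rw [eval₂_sub, eval₂_pow, eval₂_X, eval₂_C, ← map_pow]
        have h1 : (AdjoinRoot.root (X ^ p - C a : A[X])) ^ p = AdjoinRoot.of _ a := by
          have := AdjoinRoot.eval₂_root (X ^ p - C a : A[X])
          rw [eval₂_sub, eval₂_pow, eval₂_X, eval₂_C] at this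
          exact sub_eq_zero.1 this
        rw [h1]
        exact sub_eq_zero.2 congr($(s.condition).hom a)
      · refine CommRingCat.hom_ext (AdjoinRoot.ringHom_ext (RingHom.ext fun x => ?_) ?_)
        · simp [g1]
          erw [AdjoinRoot.lift_of]
          exact congr($(s.condition).hom x).symm
        · simp [g1]
          erw [AdjoinRoot.lift_root]
      · refine CommRingCat.hom_ext (RingHom.ext fun x => ?_)
        simp [i']
        exact AdjoinRoot.lift_of _
      · refine CommRingCat.hom_ext (AdjoinRoot.ringHom_ext (RingHom.ext fun x => ?_) ?_)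
        · simp
          exact congr($(hr).hom x)
        · have h2 := congr($(hl).hom (AdjoinRoot.root _))
          simp [g1] at h2 ⊢
          erw [AdjoinRoot.lift_root] at h2
          exact h2
    have hg1 : Function.Surjective g1.hom := by
      intro y
      obtain ⟨P, rfl⟩ := AdjoinRoot.mk_surjective y
      obtain ⟨P₀, rfl⟩ := Polynomial.map_surjective g.hom hg P
      refine ⟨AdjoinRoot.mk _ P₀, ?_⟩
      show AdjoinRoot.lift (g ≫ i').hom (AdjoinRoot.root _) h0 (AdjoinRoot.mk _ P₀) = _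
      rw [AdjoinRoot.lift_mk, ← AdjoinRoot.aeval_eq, aeval_def]
      exact (eval₂_map _ _ _).symm
    let j' : A1' ⟶ B' := CommRingCat.ofHom (algebraMap (Quiet.RootRing p A' (g.hom a)) B')
    have hj : (letI := j'.hom.toAlgebra; Quiet.IsRootTower p n A1' B') := by
      have e : alg = j'.hom.toAlgebra := Algebra.algebra_ext _ _ fun _ => rfl
      rw [← e]
      exact hn
    obtain ⟨B, j, g', hjT, sq2⟩ := exists_lift_tower p n g1 j' hg1 hj
    have hij : i' ≫ j' = f' := by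
      ext x
      exact (IsScalarTower.algebraMap_apply A' (Quiet.RootRing p A' (g.hom a)) B' x).symm
    refine ⟨B, i ≫ j, g', ?_, hij ▸ sq.paste_horiz sq2⟩
    letI := (i ≫ j).hom.toAlgebra
    refine ⟨a, j.hom.toAlgebra, ?_, hjT⟩
    letI := j.hom.toAlgebra
    exact IsScalarTower.of_algebraMap_eq fun x => rfl

theorem isPthRoot_SpecMap {p : ℕ} {n : ℕ} {A B : CommRingCat.{u}} (f : A ⟶ B)
    (hT : letI := f.hom.toAlgebra; Quiet.IsRootTower p n A B) : Quiet.IsPthRoot p (Spec.map f) := by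
  intro x
  refine ⟨⟨⊤, isAffineOpen_top _⟩, trivial, isAffineOpen_top _, n, ?_⟩
  exact isRootTower_baseChange p n f (Scheme.ΓSpecIso A).inv (Scheme.ΓSpecIso B).inv (Spec.map f).appTop
    (IsPushout.of_vert_isIso ⟨Scheme.ΓSpecIso_inv_naturality f⟩) hT

theorem exists_isQuiet_lift {p : ℕ} [Fact p.Prime] {T U U' : Scheme.{u}} [FrobSch.IsCharP T p] (i : U ⟶ T)
    [IsClosedImmersion i] [Surjective i] (f' : U' ⟶ U) (hf' : Quiet.IsQuiet p f') (u : U') :
    ∃ (V : U'.Opens) (T' : Scheme.{u}) (q : T' ⟶ T) (j : (V : Scheme.{u}) ⟶ T'),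
      u ∈ V ∧ Quiet.IsQuiet p q ∧ IsPullback j (V.ι ≫ f') q i := by
  obtain ⟨V₀, Y', r, e, huV, hr, he, hre⟩ := hf' u
  haveI := Groth.Agent.S0075.result i
  let W₀ : U.Etale := Scheme.Etale.mk e
  let E := (EtCoh.bc i).objPreimage W₀
  let φ := (EtCoh.bc i).objObjPreimageIso W₀
  haveI : Etale E.hom := E.prop
  let ψ : pullback E.hom i ≅ Y' := (Scheme.Etale.forget _ ⋙ Over.forget _).mapIso φ
  have hψ : ψ.hom ≫ e = pullback.snd E.hom i := Over.w ((Scheme.Etale.forget _).map φ.hom)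
  let i' : Y' ⟶ E.left := ψ.inv ≫ pullback.fst E.hom i
  have H : IsPullback i' e E.hom i :=
    IsPullback.of_iso (IsPullback.of_hasPullback E.hom i) ψ (Iso.refl _) (Iso.refl _) (Iso.refl _)
      (by simp [i']) (by simp [hψ]) (by simp) (by simp)
  haveI : IsClosedImmersion i' := MorphismProperty.of_isPullback H.flip ‹IsClosedImmersion i›
  haveI : Surjective i' := MorphismProperty.of_isPullback H.flip ‹Surjective i›
  let y : Y' := r ⟨u, huV⟩
  obtain ⟨U₁, hyU₁, hU₁', n, hn⟩ := hr y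
  -- an affine open of the lift cutting out a smaller affine open of `U₁`
  let O₀ : (E.left : Scheme.{u}).Opens := ⟨(i'.base '' (U₁.1 : Set Y')ᶜ)ᶜ,
    (i'.isClosedMap _ U₁.1.isOpen.isClosed_compl).isOpen_compl⟩
  have hyO₀ : i' y ∈ O₀ := fun ⟨y', hy', h⟩ => hy' (i'.isClosedEmbedding.injective h ▸ hyU₁)
  obtain ⟨O, hO, hyO, hOle⟩ := exists_isAffineOpen_mem_and_subset hyO₀
  have hW : IsAffineOpen (i' ⁻¹ᵁ O) := hO.preimage i'
  have hWle : i' ⁻¹ᵁ O ≤ U₁.1 := fun z hz => by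
    by_contra h
    exact hOle hz ⟨z, h, rfl⟩
  obtain ⟨hW', hTr⟩ := tower_of_le U₁.2 hU₁' hn hW hWle
  have hsurj : Function.Surjective (i'.app O).hom := Scheme.Hom.app_surjective i' O hO
  obtain ⟨B, b, b', hbT, hpo⟩ := exists_lift_tower p n (i'.app O) (r.app (i' ⁻¹ᵁ O)) hsurj hTr
  let q : Spec B ⟶ T := Spec.map b ≫ hO.fromSpec ≫ E.hom
  have P1 := isPullback_SpecMap_of_isPushout _ _ _ _ hpo
  have P2 : IsPullback (Spec.map (i'.app O)) hW.fromSpec hO.fromSpec i' := by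
    refine IsOpenImmersion.isPullback _ _ _ _ ?_ ?_
    · rw [Scheme.Hom.app_eq_appLE, IsAffineOpen.SpecMap_appLE_fromSpec i' hO hW le_rfl]
    · rw [hO.opensRange_fromSpec, hW.opensRange_fromSpec]
  have P := P1.paste_vert (P2.paste_vert H)
  let σ : ((V₀.ι ''ᵁ (r ⁻¹ᵁ (i' ⁻¹ᵁ O)) : U'.Opens) : Scheme.{u}) ≅ Spec Γ(V₀, r ⁻¹ᵁ (i' ⁻¹ᵁ O)) :=
    (V₀.ι.isoImage _).symm ≪≫ hW'.isoSpec
  refine ⟨V₀.ι ''ᵁ (r ⁻¹ᵁ (i' ⁻¹ᵁ O)), Spec B, q, σ.hom ≫ Spec.map b', ⟨⟨u, huV⟩, hyO, rfl⟩, ?_, ?_⟩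
  · intro t
    refine ⟨⊤, Spec Γ(E.left, O), (Spec B).topIso.hom ≫ Spec.map b, hO.fromSpec ≫ E.hom, trivial,
      isPthRoot_iso_comp _ (isPthRoot_SpecMap b hbT), inferInstance, ?_⟩
    simp [q, Scheme.topIso_hom]
  · refine IsPullback.of_iso P σ.symm (Iso.refl _) (Iso.refl _) (Iso.refl _) (by simp) ?_ (by simp [q]) (by simp)
    have h1 : Spec.map (r.app (i' ⁻¹ᵁ O)) ≫ hW.fromSpec = hW'.fromSpec ≫ r := by
      rw [Scheme.Hom.app_eq_appLE]
      exact IsAffineOpen.SpecMap_appLE_fromSpec r hW hW' le_rfl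
    simp only [σ, Iso.symm_hom, Iso.trans_inv, Category.assoc, Iso.refl_hom, Category.comp_id]
    rw [reassoc_of% h1, hre]
    rw [← IsAffineOpen.isoSpec_inv_ι, Category.assoc, Iso.symm_inv, Scheme.Hom.isoImage_hom_ι_assoc]

end Groth.Agent.Quiet5
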